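import Groth.Agent.QGorD.Basic
import Mathlib.RingTheory.Flat.EquationalCriterion
import Mathlib.RingTheory.Flat.Stability
import Mathlib.RingTheory.Regular.Flat
import Mathlib.RingTheory.Localization.BaseChange

/-!
Depth of a kernel of a map of modules which are flat, or on which the maximal ideal acts as a unit.
-/

universe u

open RingTheory.Sequence TensorProduct

namespace Groth.Agent.DepthPush

section Flat

variable {R : Type u} [CommRing R] {N : Type u} [AddCommGroup N] [Module R N] [Module.Flat R N]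

theorem smul_eq_zero_of_flat {x : R} (hx : IsSMulRegular R x) {m : N} (h : x • m = 0) : m = 0 := by
  obtain ⟨l, a, y, hy, ha⟩ := Module.Flat.isTrivialRelation_of_sum_smul_eq_zero
    (f := fun _ : Fin 1 => x) (x := fun _ => m) (by simpa using h)
  refine (hy 0).trans ?_
  exact Finset.sum_eq_zero fun j _ => by
    have h0 : a 0 j = 0 := hx (by simpa using ha j)
    rw [h0, zero_smul]

theorem regMod_of_flat {x y : R} (hxy : QGorD.RegMod R x y) {m n : N} (h : y • m = x • n) :
    ∃ n', m = x • n' := by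
  obtain ⟨l, a, z, hz, ha⟩ := Module.Flat.isTrivialRelation_of_sum_smul_eq_zero
    (f := ![y, -x]) (x := ![m, n]) (by simp [h])
  have hd : ∀ j, ∃ d, a 0 j = x • d := fun j => by
    refine hxy (a 0 j) (a 1 j) ?_
    have e := ha j
    simp [Fin.sum_univ_two] at e
    rw [smul_eq_mul, smul_eq_mul]
    linear_combination e
  choose d hd using hd
  refine ⟨∑ j, d j • z j, ?_⟩
  rw [show m = ![m, n] 0 from rfl, hz 0, Finset.smul_sum]
  exact Finset.sum_congr rfl fun j _ => by rw [hd j, smul_eq_mul, mul_smul]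

end Flat

theorem regMod_iff' {R : Type u} [CommRing R] (M : Type u) [AddCommGroup M] [Module R M] (x y : R) :
    QGorD.RegMod M x y ↔ IsSMulRegular (QuotSMulTop x M) y := by
  constructor
  · intro h
    refine isSMulRegular_iff_right_eq_zero_of_smul.2 fun a ha => ?_
    obtain ⟨m, rfl⟩ := Submodule.Quotient.mk_surjective _ a
    rw [← Submodule.Quotient.mk_smul, Submodule.Quotient.mk_eq_zero] at ha
    obtain ⟨c, -, hc⟩ := (Submodule.mem_smul_pointwise_iff_exists _ _ _).mp ha
    obtain ⟨n', rfl⟩ := h _ c hc.symm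
    rw [Submodule.Quotient.mk_eq_zero]
    exact (Submodule.mem_smul_pointwise_iff_exists _ _ _).mpr ⟨n', trivial, rfl⟩
  · intro h m n hmn
    have h1 : (Submodule.Quotient.mk m : QuotSMulTop x M) = 0 := by
      refine isSMulRegular_iff_right_eq_zero_of_smul.1 h _ ?_
      rw [← Submodule.Quotient.mk_smul, Submodule.Quotient.mk_eq_zero, hmn]
      exact (Submodule.mem_smul_pointwise_iff_exists _ _ _).mpr ⟨n, trivial, rfl⟩
    rw [Submodule.Quotient.mk_eq_zero] at h1
    obtain ⟨c, -, hc⟩ := (Submodule.mem_smul_pointwise_iff_exists _ _ _).mp h1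
    exact ⟨c, hc.symm⟩

variable {R : Type u} [CommRing R] [IsLocalRing R] {M N₁ N₂ : Type u} [AddCommGroup M] [Module R M]
  [AddCommGroup N₁] [Module R N₁] [AddCommGroup N₂] [Module R N₂]
  {φ : M →ₗ[R] N₁} {ψ : N₁ →ₗ[R] N₂}

theorem min_depth_le (hφ : Function.Injective φ) (hex : Function.Exact φ ψ)
    [Module.Flat R N₁] [Module.Flat R N₂] :
    min (2 : ℕ∞) (LocCoh.depth R R) ≤ LocCoh.depth R M := by
  classical
  unfold LocCoh.depth LocCoh.idealDepth
  by_cases hM : IsLocalRing.maximalIdeal R • (⊤ : Submodule R M) = ⊤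
  · rw [if_pos hM]; exact le_top
  rw [if_neg hM]
  have hR : IsLocalRing.maximalIdeal R • (⊤ : Submodule R R) ≠ ⊤ := by
    rw [smul_eq_mul, Ideal.mul_top]
    exact (IsLocalRing.maximalIdeal.isMaximal R).ne_top
  rw [if_neg hR]
  change (2 : ℕ∞) ⊓ _ ≤ _
  rw [inf_iSup₂_eq]
  refine iSup₂_le fun rs hrs => ?_
  obtain ⟨hw, hm⟩ := hrs
  match rs, hw, hm with
  | [], _, _ => exact (inf_le_right.trans (by simp))
  | [x], hw, hm =>
    have hx := ((isWeaklyRegular_cons_iff R x []).1 hw).1
    have hxM : IsSMulRegular M x := isSMulRegular_iff_right_eq_zero_of_smul.2 fun m hmx =>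
      hφ (by rw [map_zero]; exact smul_eq_zero_of_flat hx (by rw [← map_smul, hmx, map_zero]))
    refine inf_le_right.trans (le_iSup₂_of_le [x]
      ⟨(isWeaklyRegular_cons_iff M x []).2 ⟨hxM, IsWeaklyRegular.nil _ _⟩, hm⟩ le_rfl)
  | x :: y :: rest, hw, hm =>
    obtain ⟨hx, hrest⟩ := (isWeaklyRegular_cons_iff R x (y :: rest)).1 hw
    have hy := (regMod_iff' R x y).2 ((isWeaklyRegular_cons_iff _ y rest).1 hrest).1
    have hxM : IsSMulRegular M x := isSMulRegular_iff_right_eq_zero_of_smul.2 fun m hmx =>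
      hφ (by rw [map_zero]; exact smul_eq_zero_of_flat hx (by rw [← map_smul, hmx, map_zero]))
    have hyM : QGorD.RegMod M x y := fun m n hmn => by
      obtain ⟨w, hw⟩ := regMod_of_flat (N := N₁) hy (m := φ m) (n := φ n) (by rw [← map_smul, hmn, map_smul])
      have hψ : ψ w = 0 := smul_eq_zero_of_flat hx (by rw [← map_smul, ← hw, hex.apply_apply_eq_zero])
      obtain ⟨v, rfl⟩ := (hex w).1 hψ
      exact ⟨v, hφ (by rw [hw, map_smul])⟩
    refine inf_le_left.trans (le_iSup₂_of_le [x, y] ⟨(isWeaklyRegular_cons_iff M x [y]).2 ⟨hxM,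
      (isWeaklyRegular_cons_iff _ y []).2 ⟨(regMod_iff' M x y).1 hyM, IsWeaklyRegular.nil _ _⟩⟩,
      fun r hr => hm r ?_⟩ (by simp))
    simp at hr ⊢
    tauto

/-- The identity is a combination of endomorphisms with coefficients in the maximal ideal. -/
def UnitAct (R : Type u) [CommRing R] [IsLocalRing R] (N : Type u) [AddCommGroup N] [Module R N] : Prop :=
  (LinearMap.id : N →ₗ[R] N) ∈ IsLocalRing.maximalIdeal R • (⊤ : Submodule R (N →ₗ[R] N))

theorem UnitAct.eq_zero {N : Type u} [AddCommGroup N] [Module R N] (hN : UnitAct R N) {z : N}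
    (hz : ∀ a ∈ IsLocalRing.maximalIdeal R, a • z = 0) : z = 0 := by
  have key : ∀ h : N →ₗ[R] N, h ∈ IsLocalRing.maximalIdeal R • (⊤ : Submodule R (N →ₗ[R] N)) → h z = 0 := by
    intro h hh
    refine Submodule.smul_induction_on hh (fun a ha h₀ _ => ?_) (fun a b ha hb => ?_)
    · rw [LinearMap.smul_apply, ← map_smul, hz a ha, map_zero]
    · rw [LinearMap.add_apply, ha, hb, add_zero]
  exact key _ hN

theorem UnitAct.exists_smul {N : Type u} [AddCommGroup N] [Module R N] (hN : UnitAct R N) (u : R → N)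
    (hu : ∀ a ∈ IsLocalRing.maximalIdeal R, ∀ b ∈ IsLocalRing.maximalIdeal R, a • u b = b • u a) :
    ∃ w, ∀ b ∈ IsLocalRing.maximalIdeal R, b • w = u b := by
  have key : ∀ h : N →ₗ[R] N, h ∈ IsLocalRing.maximalIdeal R • (⊤ : Submodule R (N →ₗ[R] N)) →
      ∃ w, ∀ b ∈ IsLocalRing.maximalIdeal R, b • w = h (u b) := by
    intro h hh
    refine Submodule.smul_induction_on hh (fun a ha h₀ _ => ⟨h₀ (u a), fun b hb => ?_⟩)
      (fun a b ha hb => ?_)
    · rw [LinearMap.smul_apply, ← map_smul, ← map_smul, hu b hb a ha]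
    · obtain ⟨w₁, h₁⟩ := ha
      obtain ⟨w₂, h₂⟩ := hb
      exact ⟨w₁ + w₂, fun c hc => by rw [smul_add, h₁ c hc, h₂ c hc, LinearMap.add_apply]⟩
  exact key _ hN

theorem exists_regular_of_forall [IsNoetherianRing R] (M : Type u) [AddCommGroup M] [Module R M] [Module.Finite R M]
    (h : ∀ z : M, (∀ a ∈ IsLocalRing.maximalIdeal R, a • z = 0) → z = 0) :
    ∃ x ∈ IsLocalRing.maximalIdeal R, IsSMulRegular M x := by
  classical
  have hfin := associatedPrimes.finite R M
  by_contra hc
  push Not at hc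
  have hsub : ((IsLocalRing.maximalIdeal R : Ideal R) : Set R) ⊆ ⋃ p ∈ (↑hfin.toFinset : Set (Ideal R)), (p : Set R) := by
    intro x hx
    rw [Set.Finite.coe_toFinset, biUnion_associatedPrimes_eq_zero_divisors]
    have := hc x hx
    rw [isSMulRegular_iff_right_eq_zero_of_smul] at this
    push Not at this
    obtain ⟨m, hm, hm0⟩ := this
    exact ⟨m, hm0, hm⟩
  obtain ⟨q, hq, hle⟩ := (Ideal.subset_union_prime (s := hfin.toFinset) (f := fun q => q) ⊥ ⊥
    (fun q hq _ _ => (hfin.mem_toFinset.1 hq).isPrime)).1 hsub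
  obtain ⟨hp, z, hz⟩ := isAssociatedPrime_iff.1 (hfin.mem_toFinset.1 hq)
  have hz0 : z = 0 := h z fun a ha => by
    have := hle ha
    rw [hz] at this
    simpa [Submodule.mem_colon_singleton] using this
  exact hp.ne_top ((Ideal.eq_top_iff_one _).2 (by rw [hz, hz0]; simp [Submodule.mem_colon_singleton]))

theorem two_le_depth [IsNoetherianRing R] [Module.Finite R M] (hφ : Function.Injective φ)
    (hex : Function.Exact φ ψ) (h₁ : UnitAct R N₁) (h₂ : UnitAct R N₂) :
    (2 : ℕ∞) ≤ LocCoh.depth R M := by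
  have hP : ∀ z : M, (∀ a ∈ IsLocalRing.maximalIdeal R, a • z = 0) → z = 0 := fun z hz =>
    hφ (by rw [map_zero]; exact h₁.eq_zero fun a ha => by rw [← map_smul, hz a ha, map_zero])
  obtain ⟨x, hx, hxM⟩ := exists_regular_of_forall M hP
  obtain ⟨y, hy, hyM⟩ : ∃ y ∈ IsLocalRing.maximalIdeal R, IsSMulRegular (QuotSMulTop x M) y := by
    refine exists_regular_of_forall _ fun q hq => ?_
    obtain ⟨v, rfl⟩ := Submodule.Quotient.mk_surjective _ q
    have hex' : ∀ a ∈ IsLocalRing.maximalIdeal R, ∃ u : M, x • u = a • v := fun a ha => by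
      have := hq a ha
      rw [← Submodule.Quotient.mk_smul, Submodule.Quotient.mk_eq_zero] at this
      obtain ⟨c, -, hc⟩ := (Submodule.mem_smul_pointwise_iff_exists _ _ _).mp this
      exact ⟨c, hc⟩
    choose! u hu using hex'
    have huc : ∀ a ∈ IsLocalRing.maximalIdeal R, ∀ b ∈ IsLocalRing.maximalIdeal R, a • u b = b • u a :=
      fun a ha b hb => hxM (by
        change x • a • u b = x • b • u a
        rw [smul_comm x a, hu b hb, smul_comm x b, hu a ha, smul_comm])
    obtain ⟨w, hw⟩ := h₁.exists_smul (fun a => φ (u a)) fun a ha b hb => by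
      rw [← map_smul, ← map_smul, huc a ha b hb]
    have hψ : ψ w = 0 := h₂.eq_zero fun a ha => by rw [← map_smul, hw a ha, hex.apply_apply_eq_zero]
    obtain ⟨v', rfl⟩ := (hex w).1 hψ
    have hvv : v - x • v' = 0 := hP _ fun a ha => by
      have h0 : a • v' = u a := hφ (by rw [map_smul, hw a ha])
      rw [smul_sub, smul_comm a x, h0, hu a ha, sub_self]
    rw [sub_eq_zero] at hvv
    rw [Submodule.Quotient.mk_eq_zero, hvv]
    exact (Submodule.mem_smul_pointwise_iff_exists _ _ _).mpr ⟨v', trivial, rfl⟩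
  exact QGorD.two_le_of_regular hx hy hxM ((QGorD.regMod_iff M x y).2 hyM)

section BaseChange

variable {A : Type u} [CommRing A] [Algebra A R] {p : Ideal A} [p.IsPrime] [IsLocalization.AtPrime R p]

theorem unitAct_baseChange {N : Type u} [AddCommGroup N] [Module A N] {t : A} (ht : t ∉ p)
    (h : (t • LinearMap.id : N →ₗ[A] N) ∈ p • (⊤ : Submodule A (N →ₗ[A] N))) :
    UnitAct R (R ⊗[A] N) := by
  obtain ⟨τ, hτ⟩ := (IsLocalization.map_units R (⟨t, ht⟩ : p.primeCompl))
  have key : ∀ g : N →ₗ[A] N, g ∈ p • (⊤ : Submodule A (N →ₗ[A] N)) →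
      g.baseChange R ∈ IsLocalRing.maximalIdeal R • (⊤ : Submodule R (R ⊗[A] N →ₗ[R] R ⊗[A] N)) := by
    intro g hg
    refine Submodule.smul_induction_on hg (fun a ha g₀ _ => ?_) (fun a b ha hb => ?_)
    · rw [LinearMap.baseChange_smul, ← algebraMap_smul R a (g₀.baseChange R)]
      refine Submodule.smul_mem_smul ?_ trivial
      exact (IsLocalization.AtPrime.to_map_mem_maximal_iff R p a).2 ha
    · rw [LinearMap.baseChange_add]; exact add_mem ha hb
  have h1 := key _ h
  rw [LinearMap.baseChange_smul, LinearMap.baseChange_id, ← algebraMap_smul R t, ← hτ] at h1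
  have h2 := Submodule.smul_mem _ ((τ⁻¹ : Rˣ) : R) h1
  rwa [← mul_smul, Units.inv_mul, one_smul] at h2

theorem pi_mem_smul {ι : Type u} [Fintype ι] (N : ι → Type u) [∀ i, AddCommGroup (N i)] [∀ i, Module A (N i)]
    (t : ι → A) (ht : ∀ i, t i ∉ p)
    (h : ∀ i, (t i • LinearMap.id : N i →ₗ[A] N i) ∈ p • (⊤ : Submodule A (N i →ₗ[A] N i))) :
    ∃ s ∉ p, (s • LinearMap.id : (Π i, N i) →ₗ[A] Π i, N i) ∈ p • (⊤ : Submodule A ((Π i, N i) →ₗ[A] Π i, N i)) := by
  classical
  refine ⟨∏ i, t i, fun hc => ?_, ?_⟩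
  · obtain ⟨i, -, hi⟩ := (Ideal.IsPrime.prod_mem_iff).1 hc
    exact ht i hi
  · have hid : (LinearMap.id : (Π i, N i) →ₗ[A] Π i, N i) =
        ∑ i, (LinearMap.single A N i) ∘ₗ (LinearMap.proj i) := by
      refine LinearMap.ext fun v => ?_
      simp only [LinearMap.coe_sum, Finset.sum_apply, LinearMap.comp_apply, LinearMap.id_apply,
        LinearMap.proj_apply, LinearMap.single_apply]
      exact (Finset.univ_sum_single v).symm
    rw [hid, Finset.smul_sum]
    refine Submodule.sum_mem _ fun i _ => ?_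
    let L : (N i →ₗ[A] N i) →ₗ[A] ((Π j, N j) →ₗ[A] Π j, N j) :=
      { toFun := fun g => (LinearMap.single A N i) ∘ₗ g ∘ₗ (LinearMap.proj i)
        map_add' := fun g g' => LinearMap.ext fun v => Pi.single_add i (g (v i)) (g' (v i))
        map_smul' := fun a g => by
          refine LinearMap.ext fun v => ?_
          exact Pi.single_smul i a (g (v i)) }
    have hmem : L (t i • LinearMap.id) ∈ p • (⊤ : Submodule A ((Π j, N j) →ₗ[A] Π j, N j)) := by
      have := Submodule.mem_map_of_mem (f := L) (h i)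
      rw [Submodule.map_smul''] at this
      exact Submodule.smul_mono le_rfl le_top this
    rw [map_smul] at hmem
    rw [← Finset.mul_prod_erase Finset.univ t (Finset.mem_univ i), mul_comm, mul_smul]
    exact Submodule.smul_mem _ _ hmem

end BaseChange

end Groth.Agent.DepthPush
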